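import Groth.Agent.FF.QuadFixed
import Groth.Agent.CurveFF.Pencil
import Mathlib.FieldTheory.Galois.Basic

/-!
# The canonical class of a quadratic extension is a conorm
-/

set_option autoImplicit false
set_option linter.style.haveILetI false
set_option maxHeartbeats 800000

namespace Groth.Agent.CoverDivLib

attribute [local instance high] FunFld.Place.algRes
attribute [-instance] IsLocalRing.instModuleResidueFieldOfAlgebra

open FunFld Groth.Agent.FF Groth.Agent.FF.Quad
open scoped WithZero

universe u v w

variable {k : Type u} {K : Type v} {K' : Type w} [Field k] [IsAlgClosed k] [Field K] [Field K'] [Algebra k K]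
  [Algebra K K'] [Algebra k K'] [IsScalarTower k K K']

/-- An element with square below, moved to its negative by an automorphism. -/
theorem exists_anti (hdeg : Module.finrank K K' = 2) (h2 : (2 : K) ≠ 0) :
    ∃ (σ : K' ≃ₐ[K] K') (y : K') (c : K), y ≠ 0 ∧ σ y = -y ∧ algebraMap K K' c = y ^ 2 ∧
      y ∉ Set.range (algebraMap K K') := by
  classical
  haveI : FiniteDimensional K K' := Module.finite_of_finrank_eq_succ hdeg
  obtain ⟨s, hs⟩ : ∃ s, s ∉ Set.range (algebraMap K K') := by
    by_contra hall
    push Not at hall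
    have h1 : (⊤ : Submodule K K') ≤ Submodule.span K {1} := fun z _ => by
      obtain ⟨a, rfl⟩ := hall z
      rw [Algebra.algebraMap_eq_smul_one]
      exact Submodule.smul_mem _ _ (Submodule.subset_span rfl)
    have h2 := Submodule.finrank_mono h1
    rw [finrank_top, hdeg, finrank_span_singleton one_ne_zero] at h2
    omega
  obtain ⟨a, b, hab⟩ := exists_repr hdeg hs (s ^ 2)
  have h2' : (2 : K') ≠ 0 := by rw [← map_ofNat (algebraMap K K') 2]; exact (_root_.map_ne_zero _).2 h2
  set y := s - algebraMap K K' (b / 2) with hy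
  have hyn : y ∉ Set.range (algebraMap K K') := by
    rintro ⟨d, hd⟩
    exact hs ⟨d + b / 2, by rw [map_add, hd, hy]; ring⟩
  set c := a + b ^ 2 / 4 with hcdef
  have hc : algebraMap K K' c = y ^ 2 := by
    rw [hcdef, hy, map_add, map_div₀, map_div₀, map_pow, map_ofNat, map_ofNat]
    have h4 : (4 : K') ≠ 0 := by rw [show (4 : K') = 2 * 2 by norm_num]; exact mul_ne_zero h2' h2'
    field_simp
    linear_combination (-16 : K') * hab
  have hy0 : y ≠ 0 := fun h => hyn ⟨0, by rw [map_zero, h]⟩
  haveI : Algebra.IsQuadraticExtension K K' := ⟨hdeg⟩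
  haveI : Algebra.IsSeparable K K' := by
    refine ⟨fun z => ?_⟩
    have hle : IntermediateField.adjoin K {y} ≤ separableClosure K K' := by
      rw [IntermediateField.adjoin_le_iff, Set.singleton_subset_iff, SetLike.mem_coe, mem_separableClosure_iff]
      have hsep : (Polynomial.X ^ 2 - Polynomial.C c).Separable :=
        Polynomial.separable_X_pow_sub_C c (by exact_mod_cast h2) fun h => pow_ne_zero 2 hy0 (by rw [← hc, h, map_zero])
      refine hsep.of_dvd (minpoly.dvd K y ?_)
      simp [hc]
    have htop : IntermediateField.adjoin K {y} = ⊤ := by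
      have hdvd : Module.finrank K (IntermediateField.adjoin K {y}) ∣ 2 := by
        rw [← hdeg]
        exact Dvd.intro _ (Module.finrank_mul_finrank K (IntermediateField.adjoin K {y}) K')
      rcases (Nat.dvd_prime Nat.prime_two).1 hdvd with h | h
      · rw [IntermediateField.finrank_eq_one_iff, IntermediateField.adjoin_simple_eq_bot_iff, IntermediateField.mem_bot] at h
        exact absurd h hyn
      · exact IntermediateField.eq_of_le_of_finrank_le le_top (by rw [IntermediateField.finrank_top', h, hdeg])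
    exact mem_separableClosure_iff.1 (hle (htop ▸ IntermediateField.mem_top))
  haveI : IsGalois K K' := inferInstance
  obtain ⟨σ, hσ⟩ : ∃ σ : K' ≃ₐ[K] K', σ y ≠ y := by
    by_contra hall
    push Not at hall
    exact hyn (IntermediateField.mem_bot.1 ((IsGalois.mem_bot_iff_fixed (F := K) (E := K') y).2 hall))
  refine ⟨σ, y, c, hy0, ?_, hc, hyn⟩
  rcases sq_eq_sq_iff_eq_or_eq_neg.1 (show σ y ^ 2 = y ^ 2 by rw [← map_pow, ← hc, σ.commutes]) with h | h
  · exact absurd h hσ
  · exact h

/-- A divisor below whose conorm has the degree and dimension of the canonical class. -/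
theorem exists_conorm_canonical (hK : IsFunctionField k K) (hK' : IsFunctionField k K')
    (hdeg : Module.finrank K K' = 2) (h2 : (2 : k) ≠ 0) :
    ∃ E : Divisor k K, (conorm K' E).deg = 2 * (genus k K' : ℤ) - 2 ∧ genus k K' ≤ ell (conorm K' E) := by
  classical
  haveI : FiniteDimensional K K' := Module.finite_of_finrank_eq_succ hdeg
  have h2K : (2 : K) ≠ 0 := by
    rw [← map_ofNat (algebraMap k K) 2]; exact (_root_.map_ne_zero _).2 h2
  obtain ⟨σ, y, c, hy0, hσy, hc, hyr⟩ := exists_anti (K' := K') hdeg h2K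
  have hc0 : c ≠ 0 := fun h0 => pow_ne_zero 2 hy0 (by rw [← hc, h0, map_zero])
  have hgen := two_genus_eq hK hK' hdeg h2 σ hy0 hσy hc
  have hord : ∀ {Q : Place k K'} {P : Place k K} {e : ℕ}, IsOverWith Q P e → 2 * Q.ord y = e * P.ord c :=
    fun h => by rw [← ord_of_isOverWith h, hc, ord_pow]; norm_num
  set H : Divisor k K := Finsupp.mapRange (fun n : ℤ => n / 2) (by norm_num) (div k c) with hH
  set O : Divisor k K := Finsupp.mapRange (fun n : ℤ => n % 2) (by norm_num) (div k c) with hO
  have hHP : ∀ P, H P = P.ord c / 2 := fun P => by rw [hH, Finsupp.mapRange_apply, div_apply hK]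
  have hOP : ∀ P, O P = P.ord c % 2 := fun P => by rw [hO, Finsupp.mapRange_apply, div_apply hK]
  have hr : O.deg = Nat.card {P : Place k K // Odd (P.ord c)} := by
    have hsupp : ∀ P, P ∈ O.support ↔ Odd (P.ord c) := fun P => by
      rw [Finsupp.mem_support_iff, hOP, Int.odd_iff]; omega
    rw [Nat.card_congr (Equiv.subtypeEquivRight fun P => (hsupp P).symm),
      Nat.card_eq_finsetCard O.support, Divisor.deg, Finsupp.sum, Finset.card_eq_sum_ones, Nat.cast_sum]
    refine Finset.sum_congr rfl fun P hP => ?_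
    rw [deg_eq_one hK, hOP, Int.odd_iff.1 ((hsupp P).1 hP)]
    norm_num
  have hHdeg : 2 * H.deg + O.deg = 0 := by
    have e : H + H + O = div k c := by
      ext P; rw [Finsupp.add_apply, Finsupp.add_apply, hHP, hOP, div_apply hK]; omega
    have := congrArg Divisor.deg e
    rw [deg_add, deg_add, deg_div hK] at this
    omega
  obtain ⟨C, hC⟩ := exists_canonical hK
  obtain ⟨hC1, hC2⟩ := canonical_deg hK hC
  refine ⟨C - H, by rw [conorm_deg hK hdeg, deg_sub]; omega, ?_⟩
  have hA : ∀ a ∈ L (C - H), algebraMap K K' a ∈ L (conorm K' (C - H)) := fun a ha => by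
    rcases eq_or_ne a 0 with rfl | ha0
    · rw [map_zero]; exact zero_mem _
    refine (mem_L_iff_ord ((_root_.map_ne_zero _).2 ha0)).2 fun Q => ?_
    obtain ⟨P, e, hQ⟩ := exists_below (K' := K') hK hdeg Q
    rw [ord_of_isOverWith hQ, conorm_apply hK _ ⟨e, hQ⟩, ramIdx_eq hQ, ← mul_add]
    exact mul_nonneg (Int.natCast_nonneg _) ((mem_L_iff_ord ha0).1 ha P)
  have hB : ∀ b ∈ L C, algebraMap K K' b * y ∈ L (conorm K' (C - H)) := fun b hb => by
    rcases eq_or_ne b 0 with rfl | hb0
    · rw [map_zero, zero_mul]; exact zero_mem _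
    have hb' := (_root_.map_ne_zero (algebraMap K K')).2 hb0
    refine (mem_L_iff_ord (mul_ne_zero hb' hy0)).2 fun Q => ?_
    obtain ⟨P, e, hQ⟩ := exists_below (K' := K') hK hdeg Q
    have h' := (mem_L_iff_ord hb0).1 hb P
    have h1 := hord hQ
    have h3 := e_le_two hK hdeg hQ
    have h4 := pos_of_isOverWith hQ
    rw [ord_mul Q hb' hy0, ord_of_isOverWith hQ, conorm_apply hK _ ⟨e, hQ⟩, ramIdx_eq hQ, Finsupp.sub_apply, hHP]
    rcases (show e = 1 ∨ e = 2 by omega) with rfl | rfl <;> omega
  haveI := finite_L hK C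
  haveI := finite_L hK (C - H)
  haveI := finite_L hK' (conorm K' (C - H))
  let c' : K →ₗ[k] K' := (IsScalarTower.toAlgHom k K K').toLinearMap
  let Φ : L (C - H) × L C →ₗ[k] L (conorm K' (C - H)) :=
    LinearMap.codRestrict _ ((c'.comp (Submodule.subtype _)).coprod ((LinearMap.mulRight k y).comp (c'.comp (Submodule.subtype _))))
      fun pq => add_mem (hA _ pq.1.2) (hB _ pq.2.2)
  have hinj : Function.Injective Φ := by
    refine (injective_iff_map_eq_zero Φ).2 fun pq h => ?_
    obtain ⟨h1, h2⟩ := repr_zero (a := pq.1.1) (b := pq.2.1) hyr (congrArg Subtype.val h)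
    exact Prod.ext (Subtype.ext h1) (Subtype.ext h2)
  have hle := LinearMap.finrank_le_finrank_of_injective hinj
  rw [Module.finrank_prod] at hle
  have hrr := riemann_roch hK hC (C - H)
  rw [deg_sub] at hrr
  simp only [ell] at *
  omega

/-- The canonical class is that of a conorm. -/
theorem exists_sub_mem_prinDivs (hK : IsFunctionField k K) (hK' : IsFunctionField k K')
    (hdeg : Module.finrank K K' = 2) (h2 : (2 : k) ≠ 0) {C : Divisor k K'} (hC : IsCanonical k K' C) :
    ∃ E : Divisor k K, C - conorm K' E ∈ prinDivs k K' := by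
  obtain ⟨E, hE, hl⟩ := exists_conorm_canonical (K' := K') hK hK' hdeg h2
  refine ⟨E, ?_⟩
  have hrr := riemann_roch hK' hC (conorm K' E)
  obtain ⟨z, hz, hA, -, hAd⟩ := CurveFF.exists_effective hK' (D := C - conorm K' E) (by omega)
  obtain ⟨hC1, hC2⟩ := canonical_deg hK' hC
  rw [deg_sub, hE, hC2, sub_self] at hAd
  have h0 : C - conorm K' E + div k z = 0 := by
    set G := C - conorm K' E + div k z
    refine Finsupp.ext fun Q => le_antisymm ?_ (hA Q)
    by_contra hlt
    push Not at hlt
    have hle : Finsupp.single Q (G Q) ≤ G := fun R => by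
      rcases eq_or_ne R Q with rfl | hR
      · rw [Finsupp.single_eq_same]
      · rw [Finsupp.single_eq_of_ne hR]; exact hA R
    have := deg_mono hle
    rw [deg_single_ac hK', hAd] at this
    rw [Finsupp.coe_zero, Pi.zero_apply] at hlt
    omega
  rw [show C - conorm K' E = div k z⁻¹ by rw [div_inv hK']; exact eq_neg_of_add_eq_zero_left h0]
  exact AddSubgroup.subset_closure ⟨_, rfl⟩

end Groth.Agent.CoverDivLib
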