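import Groth.Agent.CastSeveriLib.Curve
import Groth.Agent.RelVALib.CurveSep
import Groth.Agent.AmpleLib.Pullback
import Groth.Agent.CurveFF.Pic

/-!
# The divisor of an inverse image is the conorm
-/

set_option autoImplicit false
set_option backward.isDefEq.respectTransparency false
set_option backward.isDefEq.respectTransparency.types false
set_option linter.style.haveILetI false
set_option maxHeartbeats 1000000

universe u

open CategoryTheory CategoryTheory.Limits AlgebraicGeometry TopologicalSpace Opposite

noncomputable section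

namespace Groth.Agent.CoverDivLib

open Groth.Agent Groth.Agent.CurveFF

attribute [local instance] Curv2.stalkAlgebra
attribute [local instance high] FunFld.Place.algRes

/-- Specialisation of stalks is semilinear. -/
theorem specialize_smul {X : Scheme.{u}} (M : X.Modules) {a b : X} (h : a ⤳ b) (r : X.presheaf.stalk b)
    (z : M.presheaf.stalk b) :
    M.presheaf.stalkSpecializes h (r • z) =
      (X.presheaf.stalkSpecializes h r : X.presheaf.stalk a) • M.presheaf.stalkSpecializes h z := by
  obtain ⟨U, hU, m, rfl⟩ := TopCat.Presheaf.exists_germ_eq M.presheaf z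
  obtain ⟨U', hU', s, rfl⟩ := TopCat.Presheaf.exists_germ_eq X.presheaf r
  have hx : b ∈ U ⊓ U' := ⟨hU, hU'⟩
  have hy : a ∈ U ⊓ U' := h.mem_open (U ⊓ U').2 hx
  rw [← TopCat.Presheaf.germ_res_apply M.presheaf (homOfLE (inf_le_left : U ⊓ U' ≤ U)) b hx m,
    ← TopCat.Presheaf.germ_res_apply X.presheaf (homOfLE (inf_le_right : U ⊓ U' ≤ U')) b hx s,
    ← ParaFLib.germ_smul', TopCat.Presheaf.germ_stalkSpecializes_apply, TopCat.Presheaf.germ_stalkSpecializes_apply,
    TopCat.Presheaf.germ_stalkSpecializes_apply]
  exact ParaFLib.germ_smul' _ _ _ _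

/-- Moving a basis to an equal point. -/
theorem bijective_transport {X : Scheme.{u}} (M : X.Modules) {a b : X} (hab : a = b) (h : a ⤳ b)
    {e : M.presheaf.stalk b} (he : Function.Bijective fun r : X.presheaf.stalk b => r • e) :
    Function.Bijective fun r : X.presheaf.stalk a => r • (M.presheaf.stalkSpecializes h e : M.presheaf.stalk a) := by
  subst hab
  rw [show (M.presheaf.stalkSpecializes h) e = e from congr($(TopCat.Presheaf.stalkSpecializes_refl M.presheaf a) _)]
  exact he

variable {k : Type u} [Field k] [IsAlgClosed k] {X Y : Scheme.{u}}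
  [X.Over (Spec (CommRingCat.of k))] [IsProper (X ↘ Spec (CommRingCat.of k))] [IsIntegral X] [VBLib.IsRegCurve X]
  [Y.Over (Spec (CommRingCat.of k))] [IsProper (Y ↘ Spec (CommRingCat.of k))] [IsIntegral Y] [VBLib.IsRegCurve Y]
  (hdim : topologicalKrullDim X = 1) (hdimY : topologicalKrullDim Y = 1)
  (f : X ⟶ Y) [IsFinite f] [Surjective f] (hf : f ≫ (Y ↘ Spec (CommRingCat.of k)) = X ↘ Spec (CommRingCat.of k))

include hf in
/-- The inverse image of a module with divisor `D` has divisor the conorm of `D`. -/
theorem exists_isDiv_pullback {L : Y.Modules} (hL : PicF.IsInvertible L) {e : L.presheaf.stalk (genericPoint Y)}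
    (he : IsBase L e) {D : FunFld.Divisor k Y.functionField} (hD : IsDiv k hdimY L e D) :
    letI := NormHomLib.ffAlg f
    ∃ e' : ((Scheme.Modules.pullback f).obj L).presheaf.stalk (genericPoint X),
      IsBase ((Scheme.Modules.pullback f).obj L) e' ∧
        IsDiv k hdim ((Scheme.Modules.pullback f).obj L) e' (FunFld.conorm X.functionField D) := by
  classical
  letI := NormHomLib.ffAlg f
  haveI := CastSeveriLib.scalarTower f hf
  haveI : FiniteDimensional Y.functionField X.functionField := NormHomLib.finite_functionField f
  haveI := EulerIneqLib.isNoetherian_proper (X := Y) k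
  haveI : Coh.IsQCoh L := (CurveLib.isCoh_of_isInvertible (X := Y) (hL)).1
  have hη : f (genericPoint X) = genericPoint Y := NormHomLib.map_genericPoint f
  have hsp : f (genericPoint X) ⤳ genericPoint Y := (Inseparable.of_eq hη).specializes
  let e₁ : L.presheaf.stalk (f (genericPoint X)) := L.presheaf.stalkSpecializes hsp e
  have he₁ := bijective_transport L hη hsp he
  refine ⟨PullbackMod.pullStalk f L (genericPoint X) e₁, AmpleLib.bijective_pullStalk f (genericPoint X) he₁, ?_⟩
  intro x hx g
  have hy : IsClosed ({f x} : Set Y) := by simpa using f.isClosedMap _ hx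
  obtain ⟨W, t, hxW, ht⟩ := ParaFLib.exists_gen_nhd hL (f x)
  have hgen := ht.bijective_germ (f x) hxW
  obtain ⟨G, hG, hvG⟩ := RelVALib.exists_coord_of_gen hdimY hL he hD hy hgen
  have hηW : genericPoint Y ∈ W := generic_mem hxW
  have hfηW : f (genericPoint X) ∈ W := hη ▸ hηW
  -- the generator upstairs at the generic point
  have hspec : spec ((Scheme.Modules.pullback f).obj L) x
      (PullbackMod.pullStalk f L x (L.presheaf.germ W (f x) hxW t)) =
      ((algebraMap Y.functionField X.functionField G : X.functionField) : X.presheaf.stalk (genericPoint X)) •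
        PullbackMod.pullStalk f L (genericPoint X) e₁ := by
    rw [PullbackMod.pullStalk_germ, spec_germ _ _ (show genericPoint X ∈ f ⁻¹ᵁ W from hfηW),
      ← PullbackMod.pullStalk_germ f L (genericPoint X) hfηW,
      ← TopCat.Presheaf.germ_stalkSpecializes_apply L.presheaf hηW hsp t,
      show L.presheaf.germ W (genericPoint Y) hηW t = (G : Y.presheaf.stalk (genericPoint Y)) • e from
        (spec_germ L hxW hηW t).symm.trans hG,
      specialize_smul, PullbackMod.pullStalk_smul]
    rfl
  have hgx : Function.Bijective fun r : X.presheaf.stalk x =>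
      r • PullbackMod.pullStalk f L x (L.presheaf.germ W (f x) hxW t) := AmpleLib.bijective_pullStalk f x hgen
  have hbase : IsBase ((Scheme.Modules.pullback f).obj L) (PullbackMod.pullStalk f L (genericPoint X) e₁) :=
    AmpleLib.bijective_pullStalk f (genericPoint X) he₁
  set Q := placeOf k hdim x hx
  set P := placeOf k hdimY (f x) hy
  have hQP := CastSeveriLib.isOver_placeOf hdim hdimY f hf hx hy
  have hQG : Q.1 (algebraMap Y.functionField X.functionField G) = WithZero.exp (FunFld.conorm X.functionField D Q) := by
    rw [FF.conorm_apply (isFF k hdimY) _ hQP, FF.isOverWith_ramIdx hQP G, hvG, ← WithZero.exp_nsmul, nsmul_eq_mul]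
  rw [← hQG]
  constructor
  · rintro ⟨z, hz⟩
    obtain ⟨r, rfl⟩ := hgx.2 z
    have hr : (algebraMap (X.presheaf.stalk x) X.functionField r *
        algebraMap Y.functionField X.functionField G : X.functionField) = g :=
      hbase.1 (show _ • _ = _ • _ by rw [← hz, spec_smul, hspec, smul_smul])
    rw [← hr, map_mul]
    exact mul_le_of_le_one_left' ((placeOf_le_one_iff hdim hx _).2 ⟨r, rfl⟩)
  · intro hle
    have hG0 : algebraMap Y.functionField X.functionField G ≠ 0 := fun h => by
      rw [h, map_zero] at hQG; exact WithZero.exp_ne_zero hQG.symm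
    obtain ⟨r, hr⟩ := (placeOf_le_one_iff hdim hx (g / algebraMap Y.functionField X.functionField G)).1 (by
      rw [map_div₀]
      exact (div_le_one₀ (zero_lt_iff.2 (by rw [hQG]; exact WithZero.exp_ne_zero))).2 hle)
    refine ⟨r • PullbackMod.pullStalk f L x (L.presheaf.germ W (f x) hxW t), ?_⟩
    rw [spec_smul, hspec, smul_smul]
    congr 1
    exact (congrArg (· * algebraMap Y.functionField X.functionField G) hr).trans (div_mul_cancel₀ g hG0)

end Groth.Agent.CoverDivLib
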